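import Mathlib
import Groth.Agent.H33.Perf.Local
import Groth.Agent.H44.LocalLift
import Groth.Agent.H44.Retract

/-!
# The kernel of an epimorphism of finite locally free modules is finite locally free
-/

set_option autoImplicit false
universe u
open CategoryTheory CategoryTheory.Limits AlgebraicGeometry Scheme.Modules

namespace Groth.Agent.H33.PC

variable {X : Scheme.{u}}

open Groth.Agent.H33.Perf

/-- finite local freeness is local -/
theorem isFinLocFree_of_locally (M : X.Modules)
    (h : ∀ x : X, ∃ W : X.Opens, x ∈ W ∧ FlatMod.IsFinLocFree (M.restrict W.ι)) :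
    FlatMod.IsFinLocFree M := by
  intro x
  obtain ⟨W, hxW, hW⟩ := h x
  obtain ⟨V', n, hxV', ⟨e⟩⟩ := hW ⟨x, hxW⟩
  refine ⟨W.ι ''ᵁ V', n, ⟨⟨x, hxW⟩, hxV', rfl⟩, ⟨?_⟩⟩
  exact (restrictImageIso W V').app M ≪≫
    (restrictFunctor (W.ι.isoImage V').inv).mapIso e ≪≫
    Groth.Agent.H44.restrictFreeModIso (W.ι.isoImage V').inv n

/-- a retract of a finite locally free module is finite locally free -/
theorem isFinLocFree_of_retract {M P : X.Modules} (hP : FlatMod.IsFinLocFree P)
    (i : M ⟶ P) (r : P ⟶ M) (hir : i ≫ r = 𝟙 M) : FlatMod.IsFinLocFree M := by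
  refine isFinLocFree_of_locally M (fun x => ?_)
  obtain ⟨U, n, hxU, ⟨e⟩⟩ := hP x
  refine ⟨U, hxU, ?_⟩
  refine Groth.Agent.H44.isFinLocFree_of_retract_freeMod
    ((restrictFunctor U.ι).map i ≫ e.hom) (e.inv ≫ (restrictFunctor U.ι).map r) ?_
  rw [Category.assoc, e.hom_inv_id_assoc, ← Functor.map_comp, hir,
    CategoryTheory.Functor.map_id]

/-- the kernel of an epimorphism between finite locally free modules is finite locally free -/
theorem isFinLocFree_kernel {M N : X.Modules} (p : M ⟶ N) [Epi p]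
    (hM : FlatMod.IsFinLocFree M) (hN : FlatMod.IsFinLocFree N) :
    FlatMod.IsFinLocFree (kernel p) := by
  refine isFinLocFree_of_locally _ (fun x => ?_)
  obtain ⟨V, s, hxV, hs⟩ := Groth.Agent.H44.exists_local_lift_of_isFinLocFree p (𝟙 N) hN x
  rw [CategoryTheory.Functor.map_id] at hs
  refine ⟨V, hxV, ?_⟩
  let R := restrictFunctor V.ι
  have hz : (R.map (kernel.ι p)) ≫ R.map p = 0 := by
    rw [← Functor.map_comp, kernel.condition, Functor.map_zero]
  -- the retraction `M|_V ⟶ (ker p)|_V`
  have hK : IsLimit (KernelFork.ofι (R.map (kernel.ι p)) hz) := by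
    have := isLimitOfPreserves R (kernelIsKernel p)
    exact (isLimitMapConeForkEquiv' R (kernel.condition p)) this
  have h0 : (𝟙 _ - R.map p ≫ s) ≫ R.map p = 0 := by
    rw [Preadditive.sub_comp, Category.id_comp, Category.assoc, hs, Category.comp_id, sub_self]
  let r : R.obj M ⟶ R.obj (kernel p) := hK.lift (KernelFork.ofι _ h0)
  have hr : r ≫ R.map (kernel.ι p) = 𝟙 _ - R.map p ≫ s := hK.fac (KernelFork.ofι _ h0) .zero
  haveI : Mono (R.map (kernel.ι p)) := inferInstance
  refine isFinLocFree_of_retract (isFinLocFree_restrict V.ι M hM) (R.map (kernel.ι p)) r ?_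
  rw [← cancel_mono (R.map (kernel.ι p)), Category.assoc, hr, Preadditive.comp_sub,
    Category.comp_id, reassoc_of% hz, zero_comp, sub_zero, Category.id_comp]

end Groth.Agent.H33.PC
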