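import Mathlib
import Groth.Agent.H33.PC.KerEpi
import Groth.Agent.H33.Perf.RpushSupp
import Groth.Agent.H33.Perf.Cone

/-!
# Cycles of a strictly perfect complex which is exact in high degrees are finite locally free
-/

set_option autoImplicit false
universe u
open CategoryTheory CategoryTheory.Limits AlgebraicGeometry Scheme.Modules

namespace Groth.Agent.H33.PC

variable {X : Scheme.{u}}

open Groth.Agent.H33.Perf

/-- `Z^i(E) ≅ ker (E^i ⟶ Z^{i+1}(E))` -/
noncomputable def cyclesIsoKernelToCycles (E : CochainComplex X.Modules ℤ) (i j : ℤ)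
    (hij : i + 1 = j) : E.cycles i ≅ kernel (E.toCycles i j) := by
  have hnext : (ComplexShape.up ℤ).next i = j := by
    rw [CochainComplex.next]; exact hij
  have h1 : IsLimit (KernelFork.ofι (E.iCycles i) (E.iCycles_d i j)) := E.cyclesIsKernel i j hnext
  have h0 : E.iCycles i ≫ E.toCycles i j = 0 := by
    rw [← cancel_mono (E.iCycles j), Category.assoc, E.toCycles_i, E.iCycles_d, zero_comp]
  have h2 : IsLimit (KernelFork.ofι (E.iCycles i) h0) :=
    isKernelOfComp (E.iCycles j) (E.d i j) h1 h0 (E.toCycles_i i j)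
  exact h2.conePointUniqueUpToIso (limit.isLimit _)

/-- if `H^j(E) = 0` then `E^i ⟶ Z^j(E)` is an epimorphism (`j = i + 1`) -/
lemma epi_toCycles (E : CochainComplex X.Modules ℤ) (i j : ℤ) (hij : i + 1 = j)
    (h : IsZero (E.homology j)) : Epi (E.toCycles i j) := by
  have hprev : (ComplexShape.up ℤ).prev j = i := by
    rw [CochainComplex.prev]; omega
  exact Preadditive.epi_of_isZero_cokernel' _ (E.homologyIsCokernel i j hprev) h

/-- the core lemma -/
theorem isFinLocFree_cycles (E : CochainComplex X.Modules ℤ) (hE : DCoh.IsStrictlyPerfect E)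
    (n : ℤ) (hn : ∀ i : ℤ, n < i → IsZero (E.homology i)) (i : ℤ) (hi : n ≤ i) :
    FlatMod.IsFinLocFree (E.cycles i) := by
  obtain ⟨⟨a, b, hab⟩, hfl⟩ := hE
  suffices H : ∀ (k : ℕ) (i : ℤ), b + 1 ≤ i + k → n ≤ i → FlatMod.IsFinLocFree (E.cycles i) by
    exact H (b + 1 - i).toNat i (by omega) hi
  intro k
  induction k with
  | zero =>
    intro i hi1 _
    have hz : IsZero (E.X i) := hab i (Or.inr (by omega))
    have : IsZero (E.cycles i) := by
      rw [IsZero.iff_id_eq_zero, ← cancel_mono (E.iCycles i)]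
      exact hz.eq_of_tgt _ _
    exact isFinLocFree_of_isZero _ this
  | succ k ih =>
    intro i hi1 hi2
    have h1 : FlatMod.IsFinLocFree (E.cycles (i + 1)) := ih (i + 1) (by omega) (by omega)
    have : Epi (E.toCycles i (i + 1)) := epi_toCycles E i (i + 1) rfl (hn (i + 1) (by omega))
    exact isFinLocFree_of_iso' (cyclesIsoKernelToCycles E i (i + 1) rfl).symm
      (isFinLocFree_kernel (E.toCycles i (i + 1)) (hfl i) h1)

end Groth.Agent.H33.PC
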