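import Mathlib
import Groth.Agent.H33.PC.KerEpi
import Groth.Agent.H44.FPSections
import Groth.Agent.H71.QCoh.FPCriterion

/-!
# Finite type `O_X`-modules in terms of local epimorphisms from free modules of finite rank
-/

set_option autoImplicit false
universe u
open CategoryTheory CategoryTheory.Limits AlgebraicGeometry Scheme.Modules TopologicalSpace

namespace Groth.Agent.H33.PC

variable {X : Scheme.{u}}

open Groth.Agent.H33.Perf

/-- `G` is locally generated by finitely many sections, in the form: locally there is an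
epimorphism from a free module of finite rank -/
def LocFinGen (G : X.Modules) : Prop :=
  ∀ x : X, ∃ (U : X.Opens) (n : ℕ) (q : FlatMod.freeMod (U : Scheme.{u}) n ⟶ G.restrict U.ι),
    x ∈ U ∧ Epi q

lemma locFinGen_of_iso {G G' : X.Modules} (e : G ≅ G') (h : LocFinGen G) : LocFinGen G' := by
  intro x
  obtain ⟨U, n, q, hxU, hq⟩ := h x
  exact ⟨U, n, q ≫ (restrictFunctor U.ι).map e.hom, hxU, epi_comp _ _⟩

lemma epi_freeModIsoFree_inv_comp {U : Scheme.{u}} (G : U.Modules) (n : ℕ)
    (q : FlatMod.freeMod U n ⟶ G) [Epi q] :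
    Epi ((Groth.Agent.H44.freeModIsoFree U n).inv ≫ q) := by
  have h1 : IsIso (Groth.Agent.H44.freeModIsoFree U n).inv := Iso.isIso_inv _
  have h2 : Epi (Groth.Agent.H44.freeModIsoFree U n).inv := IsIso.epi_of_iso _
  exact epi_comp _ _

/-- generating sections of `G|_U` from an epimorphism from a free module -/
noncomputable def generatingSectionsOfEpi {U : Scheme.{u}} (G : U.Modules) (n : ℕ)
    (q : FlatMod.freeMod U n ⟶ G) [Epi q] :
    SheafOfModules.GeneratingSections (R := U.ringCatSheaf) G where
  I := ULift.{u} (Fin n)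
  s := SheafOfModules.freeHomEquiv (R := U.ringCatSheaf) G
    ((Groth.Agent.H44.freeModIsoFree U n).inv ≫ q)
  epi := by
    rw [Equiv.symm_apply_apply]
    exact epi_freeModIsoFree_inv_comp G n q

instance {U : Scheme.{u}} (G : U.Modules) (n : ℕ)
    (q : FlatMod.freeMod U n ⟶ G) [Epi q] : (generatingSectionsOfEpi G n q).IsFiniteType where
  finite := inferInstanceAs (Finite (ULift.{u} (Fin n)))

set_option backward.isDefEq.respectTransparency false in
/-- finitely many generating sections of the restriction of `G` to `U` give finitely many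
generating sections of `G.over U` -/
theorem exists_generatingSections_over (G : X.Modules) (U : X.Opens)
    (P : SheafOfModules.GeneratingSections (R := (U : Scheme.{u}).ringCatSheaf) (G.restrict U.ι))
    [P.IsFiniteType] :
    ∃ Q : (G.over U).GeneratingSections, Q.IsFiniteType := by
  let e := Scheme.Modules.overEquiv U
  let P1 : (e.functor.obj (G.over U)).GeneratingSections :=
    P.ofEpi ((Scheme.Modules.overFunctorEquiv U).app G).inv
  have hP1 : P1.IsFiniteType := inferInstance
  have : PreservesColimitsOfSize.{u, u} e.inverse := inferInstance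
  let η : SheafOfModules.unit (X.ringCatSheaf.over U) ≅
      e.inverse.obj (SheafOfModules.unit (U : Scheme.{u}).ringCatSheaf) :=
    (U.sheafOfModulesEquivOverInverseUnit X.ringCatSheaf).symm
  let P2 : (e.inverse.obj (e.functor.obj (G.over U))).GeneratingSections := P1.map e.inverse η
  have hP2 : P2.IsFiniteType := inferInstance
  exact ⟨P2.ofEpi (e.unitIso.app (G.over U)).inv, inferInstance⟩

/-- locally finitely generated modules are of finite type -/
theorem isFT_of_locFinGen (G : X.Modules) (h : LocFinGen G) : CohB1.IsFT G := by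
  choose U n q hxU hq using h
  have hU : IsOpenCover U := by
    rw [IsOpenCover, eq_top_iff]
    intro x _
    exact Opens.mem_iSup.mpr ⟨x, hxU x⟩
  have hcov : (Opens.grothendieckTopology X).CoversTop U :=
    (_root_.Opens.coversTop_iff _ U).mpr hU
  have h' : ∀ x, ∃ Q : (G.over (U x)).GeneratingSections, Q.IsFiniteType := fun x => by
    have := hq x
    exact exists_generatingSections_over G (U x) (generatingSectionsOfEpi _ (n x) (q x))
  choose Q hQ using h'
  let σ : SheafOfModules.LocalGeneratorsData (R := X.ringCatSheaf) G :=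
    { I := X, X := U, coversTop := hcov, generators := Q }
  have hσ : σ.IsFiniteType := { isFiniteType := hQ }
  exact { exists_localGeneratorsData := ⟨σ, hσ⟩ }

/-- an epimorphism from `free I`, `I` finite, gives an epimorphism from `freeMod U n` -/
lemma exists_epi_freeMod_of_epi_free {U : Scheme.{u}} (G : U.Modules) (I : Type u) [Finite I]
    (π : SheafOfModules.free (R := U.ringCatSheaf) I ⟶ G) [Epi π] :
    ∃ (n : ℕ) (q : FlatMod.freeMod U n ⟶ G), Epi q := by
  let n := Nat.card I
  let eqv : ULift.{u} (Fin n) ≃ I := Equiv.ulift.trans (Finite.equivFin I).symm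
  let φ : SheafOfModules.free (R := U.ringCatSheaf) (ULift.{u} (Fin n)) ≅
      SheafOfModules.free (R := U.ringCatSheaf) I :=
    (SheafOfModules.freeFunctor (R := U.ringCatSheaf)).mapIso eqv.toIso
  refine ⟨n, (Groth.Agent.H44.freeModIsoFree U n).hom ≫ φ.hom ≫ π, ?_⟩
  have h1 : IsIso (Groth.Agent.H44.freeModIsoFree U n).hom := Iso.isIso_hom _
  have h2 : Epi (Groth.Agent.H44.freeModIsoFree U n).hom := IsIso.epi_of_iso _
  have h4 : IsIso φ.hom := Iso.isIso_hom _
  have h5 : Epi φ.hom := IsIso.epi_of_iso _
  have h3 : Epi (φ.hom ≫ π) := epi_comp' h5 ‹Epi π›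
  exact epi_comp' h2 h3

set_option backward.isDefEq.respectTransparency false in
/-- modules of finite type are locally finitely generated -/
theorem locFinGen_of_isFT (G : X.Modules) (h : CohB1.IsFT G) : LocFinGen G := by
  obtain ⟨σ, hσ⟩ := h.exists_localGeneratorsData
  have hcov : IsOpenCover σ.X := (_root_.Opens.coversTop_iff _ σ.X).mp σ.coversTop
  intro x
  obtain ⟨i, hxi⟩ : ∃ i, x ∈ σ.X i := by
    have : x ∈ (⨆ i, σ.X i : X.Opens) := by rw [hcov.iSup_eq_top]; trivial
    exact Opens.mem_iSup.mp this
  let U : X.Opens := σ.X i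
  let e := Scheme.Modules.overEquiv U
  have : PreservesColimitsOfSize.{u, u} e.functor := inferInstance
  have := hσ.isFiniteType i
  let P1 : (e.functor.obj (G.over U)).GeneratingSections :=
    (σ.generators i).map e.functor (Iso.refl _)
  have hP1 : P1.IsFiniteType := inferInstance
  let P2 : SheafOfModules.GeneratingSections (R := (U : Scheme.{u}).ringCatSheaf)
      (G.restrict U.ι) := P1.ofEpi ((Scheme.Modules.overFunctorEquiv U).app G).hom
  have hP2 : P2.IsFiniteType := inferInstance
  have : Finite P2.I := hP2.finite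
  have : Epi P2.π := P2.epi
  obtain ⟨n, q, hq⟩ := exists_epi_freeMod_of_epi_free (G.restrict U.ι) P2.I P2.π
  exact ⟨U, n, q, hxi, hq⟩

/-- a quotient of a finite locally free module is locally finitely generated -/
theorem locFinGen_of_epi {G P : X.Modules} (p : P ⟶ G) [Epi p] (hP : FlatMod.IsFinLocFree P) :
    LocFinGen G := by
  intro x
  obtain ⟨U, n, hxU, ⟨e⟩⟩ := hP x
  have : Epi ((restrictFunctor U.ι).map p) := inferInstance
  exact ⟨U, n, e.inv ≫ (restrictFunctor U.ι).map p, hxU, epi_comp _ _⟩

/-- local finite generation is local -/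
theorem locFinGen_of_locally (G : X.Modules)
    (h : ∀ x : X, ∃ V : X.Opens, x ∈ V ∧ LocFinGen (G.restrict V.ι)) : LocFinGen G := by
  intro x
  obtain ⟨V, hxV, hV⟩ := h x
  obtain ⟨V', n, q, hxV', hq⟩ := hV ⟨x, hxV⟩
  let R := restrictFunctor (V.ι.isoImage V').inv
  have : Epi (R.map q) := inferInstance
  refine ⟨V.ι ''ᵁ V', n, (Groth.Agent.H44.restrictFreeModIso (V.ι.isoImage V').inv n).inv ≫
    R.map q ≫ ((restrictImageIso V V').app G).inv, ⟨⟨x, hxV⟩, hxV', rfl⟩, ?_⟩
  have h1 : Epi (R.map q ≫ ((restrictImageIso V V').app G).inv) := epi_comp _ _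
  exact epi_comp _ _

end Groth.Agent.H33.PC
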