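import Mathlib
import Groth.Agent.H33.PC.FT
import Groth.Agent.H92.LocFreeRank

/-!
# Finitely presented `O_X`-modules in terms of local cokernels of maps of free modules
-/

set_option autoImplicit false
universe u
open CategoryTheory CategoryTheory.Limits AlgebraicGeometry Scheme.Modules TopologicalSpace

namespace Groth.Agent.H33.PC

variable {X : Scheme.{u}}

open Groth.Agent.H33.Perf

/-- `G` is locally the cokernel of a map between free modules of finite rank -/
def LocFinPres (G : X.Modules) : Prop :=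
  ∀ x : X, ∃ (U : X.Opens) (a b : ℕ)
    (f : FlatMod.freeMod (U : Scheme.{u}) a ⟶ FlatMod.freeMod (U : Scheme.{u}) b),
    x ∈ U ∧ Nonempty (cokernel f ≅ G.restrict U.ι)

lemma locFinPres_of_iso {G G' : X.Modules} (e : G ≅ G') (h : LocFinPres G) : LocFinPres G' := by
  intro x
  obtain ⟨U, a, b, f, hxU, ⟨i⟩⟩ := h x
  exact ⟨U, a, b, f, hxU, ⟨i ≪≫ (restrictFunctor U.ι).mapIso e⟩⟩

lemma conj_comm {C : Type*} [Category C] {A B A' B' : C} (α : A ≅ A') (β : B ≅ B') (f : A ⟶ B) :
    (α.inv ≫ f ≫ β.hom) ≫ β.symm.hom = α.symm.hom ≫ f := by simp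

set_option backward.isDefEq.respectTransparency false in
/-- a finite presentation of the cokernel of a map of free modules of finite rank -/
theorem exists_presentation_cokernel {U : Scheme.{u}} (a b : ℕ)
    (f : FlatMod.freeMod U a ⟶ FlatMod.freeMod U b) :
    ∃ P : SheafOfModules.Presentation (R := U.ringCatSheaf) (cokernel f), P.IsFinite := by
  let α := Groth.Agent.H44.freeModIsoFree U a
  let β := Groth.Agent.H44.freeModIsoFree U b
  let f' : SheafOfModules.free (R := U.ringCatSheaf) (ULift.{u} (Fin a)) ⟶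
      SheafOfModules.free (R := U.ringCatSheaf) (ULift.{u} (Fin b)) := α.inv ≫ f ≫ β.hom
  let P0 : SheafOfModules.Presentation (R := U.ringCatSheaf) (cokernel f') :=
    SheafOfModules.presentationOfIsCokernelFree f' (cokernel.π f') (cokernel.condition f')
      (cokernelIsCokernel f')
  have hP0 : P0.IsFinite :=
    { isFiniteType_generators := ⟨inferInstanceAs (Finite (ULift.{u} (Fin b)))⟩
      isFiniteType_relations := ⟨inferInstanceAs (Finite (ULift.{u} (Fin a)))⟩ }
  let i : cokernel f' ≅ cokernel f :=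
    cokernel.mapIso f' f α.symm β.symm (conj_comm α β f)
  exact ⟨P0.ofIsIso i.hom, inferInstance⟩

set_option backward.isDefEq.respectTransparency false in
/-- locally finitely presented (in the above sense) modules are finitely presented -/
theorem isFP_of_locFinPres (G : X.Modules) (h : LocFinPres G) : CohB1.IsFP G := by
  choose U a b f hxU i using h
  have hU : IsOpenCover U := by
    rw [IsOpenCover, eq_top_iff]
    intro x _
    exact Opens.mem_iSup.mpr ⟨x, hxU x⟩
  refine Groth.Agent.H71.QCoh.isFinitePresentation_of_cover G U hU (fun x => ?_)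
  obtain ⟨P, hP⟩ := exists_presentation_cokernel (a x) (b x) (f x)
  obtain ⟨j⟩ := i x
  have : @IsIso (SheafOfModules (U x : Scheme.{u}).ringCatSheaf) _ _ _ j.hom :=
    ⟨⟨j.inv, j.hom_inv_id, j.inv_hom_id⟩⟩
  exact ⟨P.ofIsIso j.hom, inferInstance⟩

/-- conjugating by isomorphisms does not change the cokernel -/
noncomputable def cokernelConjIso {C : Type*} [Category C] [Abelian C] {A B A' B' : C}
    (α : A ≅ A') (β : B ≅ B') (f : A ⟶ B) : cokernel (α.inv ≫ f ≫ β.hom) ≅ cokernel f :=
  cokernel.mapIso (α.inv ≫ f ≫ β.hom) f α.symm β.symm (conj_comm α β f)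

/-- the cokernel of a map of finite locally free modules is locally finitely presented -/
theorem locFinPres_of_cokernel {G P₁ P₀ : X.Modules} (g : P₁ ⟶ P₀) (e : cokernel g ≅ G)
    (h₁ : FlatMod.IsFinLocFree P₁) (h₀ : FlatMod.IsFinLocFree P₀) : LocFinPres G := by
  intro x
  obtain ⟨U₁, a, hx₁, ⟨e₁⟩⟩ := h₁ x
  obtain ⟨U₀, b, hx₀, ⟨e₀⟩⟩ := h₀ x
  let W : X.Opens := U₁ ⊓ U₀
  let α := Groth.Agent.H92.LocFreeRank.restrictTriv (inf_le_left : W ≤ U₁) a e₁
  let β := Groth.Agent.H92.LocFreeRank.restrictTriv (inf_le_right : W ≤ U₀) b e₀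
  let R := restrictFunctor W.ι
  refine ⟨W, a, b, α.inv ≫ R.map g ≫ β.hom, ⟨hx₁, hx₀⟩, ⟨?_⟩⟩
  exact cokernelConjIso α β (R.map g) ≪≫ (PreservesCokernel.iso R g).symm ≪≫ R.mapIso e

/-- local finite presentation is local -/
theorem locFinPres_of_locally (G : X.Modules)
    (h : ∀ x : X, ∃ V : X.Opens, x ∈ V ∧ LocFinPres (G.restrict V.ι)) : LocFinPres G := by
  intro x
  obtain ⟨V, hxV, hV⟩ := h x
  obtain ⟨V', a, b, f, hxV', ⟨i⟩⟩ := hV ⟨x, hxV⟩
  let R := restrictFunctor (V.ι.isoImage V').inv
  let α := Groth.Agent.H44.restrictFreeModIso (V.ι.isoImage V').inv a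
  let β := Groth.Agent.H44.restrictFreeModIso (V.ι.isoImage V').inv b
  refine ⟨V.ι ''ᵁ V', a, b, α.inv ≫ R.map f ≫ β.hom, ⟨⟨x, hxV⟩, hxV', rfl⟩, ⟨?_⟩⟩
  exact cokernelConjIso α β (R.map f) ≪≫ (PreservesCokernel.iso R f).symm ≪≫ R.mapIso i ≪≫
    ((restrictImageIso V V').app G).symm

/-- `free I ≅ freeMod U (card I)` for a finite type `I` -/
noncomputable def freeIsoFreeMod (U : Scheme.{u}) (I : Type u) [Finite I] :
    SheafOfModules.free (R := U.ringCatSheaf) I ≅ FlatMod.freeMod U (Nat.card I) :=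
  ((SheafOfModules.freeFunctor (R := U.ringCatSheaf)).mapIso
    (Equiv.ulift.trans (Finite.equivFin I).symm).toIso).symm ≪≫
    (Groth.Agent.H44.freeModIsoFree U (Nat.card I)).symm

set_option backward.isDefEq.respectTransparency false in
/-- finitely presented modules are locally finitely presented in the above sense -/
theorem locFinPres_of_isFP (G : X.Modules) (h : CohB1.IsFP G) : LocFinPres G := by
  have : SheafOfModules.IsFinitePresentation (R := X.ringCatSheaf) G := h
  obtain ⟨ι, U, σ, hσ, hU, -⟩ := Groth.Agent.H44.exists_isOpenCover_presentation_isFinite G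
  intro x
  obtain ⟨i, hxi⟩ : ∃ i, x ∈ U i := by
    have : x ∈ (⨆ i, U i : X.Opens) := by rw [hU.iSup_eq_top]; trivial
    exact Opens.mem_iSup.mp this
  have := hσ i
  have : Finite (σ i).generators.I := inferInstance
  have : Finite (σ i).relations.I := inferInstance
  let F := (SheafOfModules.freeHomEquiv _).symm (σ i).relations.s ≫ kernel.ι (σ i).generators.π
  let α := freeIsoFreeMod (U i : Scheme.{u}) (σ i).relations.I
  let β := freeIsoFreeMod (U i : Scheme.{u}) (σ i).generators.I
  have hc := (σ i).isColimit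
  let j : cokernel F ≅ G.restrict (U i).ι :=
    (colimit.isColimit _).coconePointUniqueUpToIso hc
  exact ⟨U i, _, _, α.inv ≫ F ≫ β.hom, hxi, ⟨cokernelConjIso α β F ≪≫ j⟩⟩

end Groth.Agent.H33.PC
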