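import Mathlib
import Groth.Agent.H33.PC.Cycles
import Groth.Agent.H33.PC.FP
import Groth.Agent.H16.ExactDer
import Groth.Prelude.Def_CxOX

/-!
# Top cohomology sheaves of pseudo-coherent objects
-/

set_option autoImplicit false
universe u
open CategoryTheory CategoryTheory.Limits AlgebraicGeometry Scheme.Modules TopologicalSpace

attribute [local instance] HasDerivedCategory.standard

namespace Groth.Agent.H33.PC

variable {X : Scheme.{u}}

/-- `H^i(Q(F|_V)) ≅ H^i(K)|_V` for a representative `F` of `K` -/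
noncomputable def homologyRestrictIso (K : DCoh.D X) (F : CochainComplex X.Modules ℤ)
    (eF : DCoh.toD X F ≅ K) (V : X.Opens) (i : ℤ) :
    (DerivedCategory.homologyFunctor (V : Scheme.{u}).Modules i).obj
      (DerivedCategory.Q.obj ((DCoh.restrictCx V).obj F)) ≅ (DCoh.HD K i).restrict V.ι :=
  (DerivedCategory.homologyFunctor (V : Scheme.{u}).Modules i).mapIso
    (((restrictFunctor V.ι).mapDerivedCategoryFactors.app F).symm ≪≫
      (DCoh.restrictD V.ι).mapIso eF) ≪≫
    (Groth.Agent.H16.ExactDer.homologyNatIso (restrictFunctor V.ι) i).app K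

/-- local data extracted from pseudo-coherence -/
lemma exists_local_data (m : ℤ) (K : DCoh.D X) (hK : DCoh.IsPseudoCoherentD m K) (x : X) :
    ∃ (V : X.Opens) (E : CochainComplex (V : Scheme.{u}).Modules ℤ)
      (β : ∀ i : ℤ, E.homology i ⟶ (DCoh.HD K i).restrict V.ι),
      x ∈ V ∧ DCoh.IsStrictlyPerfect E ∧ (∀ i : ℤ, m < i → IsIso (β i)) ∧ Epi (β m) := by
  obtain ⟨V, hxV, hV⟩ := hK x
  let F := DerivedCategory.Q.objPreimage K
  let eF : DCoh.toD X F ≅ K := DerivedCategory.Q.objObjPreimageIso K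
  obtain ⟨E, α, hE, hiso, hepi⟩ := hV F ⟨eF⟩
  let γ : ∀ i : ℤ, E.homology i ≅
      (DerivedCategory.homologyFunctor (V : Scheme.{u}).Modules i).obj (DerivedCategory.Q.obj E) :=
    fun i => ((DerivedCategory.homologyFunctorFactors (V : Scheme.{u}).Modules i).app E).symm
  refine ⟨V, E, fun i => (γ i).hom ≫
    (DerivedCategory.homologyFunctor (V : Scheme.{u}).Modules i).map α ≫
    (homologyRestrictIso K F eF V i).hom, hxV, hE, fun i hi => ?_, ?_⟩
  · have := hiso i hi
    infer_instance
  · have := hepi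
    have h1 : Epi ((DerivedCategory.homologyFunctor (V : Scheme.{u}).Modules m).map α ≫
      (homologyRestrictIso K F eF V m).hom) := epi_comp _ _
    exact epi_comp _ _

theorem isFT_HD (m : ℤ) (K : DCoh.D X) (hK : DCoh.IsPseudoCoherentD m K)
    (h : ∀ i : ℤ, m < i → IsZero (DCoh.HD K i)) : LocFinGen (DCoh.HD K m) := by
  refine locFinGen_of_locally _ (fun x => ?_)
  obtain ⟨V, E, β, hxV, hE, hiso, hepi⟩ := exists_local_data m K hK x
  refine ⟨V, hxV, ?_⟩
  have hz : ∀ i : ℤ, m < i → IsZero (E.homology i) := by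
    intro i hi
    have := hiso i hi
    exact IsZero.of_iso ((restrictFunctor V.ι).map_isZero (h i hi)) (asIso (β i))
  have hfl := isFinLocFree_cycles E hE m hz m le_rfl
  have : Epi (E.homologyπ m ≫ β m) := epi_comp _ _
  exact locFinGen_of_epi (E.homologyπ m ≫ β m) hfl

theorem isFP_HD (m : ℤ) (K : DCoh.D X) (hK : DCoh.IsPseudoCoherentD m K)
    (h : ∀ i : ℤ, m + 1 < i → IsZero (DCoh.HD K i)) : LocFinPres (DCoh.HD K (m + 1)) := by
  refine locFinPres_of_locally _ (fun x => ?_)
  obtain ⟨V, E, β, hxV, hE, hiso, hepi⟩ := exists_local_data m K hK x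
  refine ⟨V, hxV, ?_⟩
  have hz : ∀ i : ℤ, m + 1 < i → IsZero (E.homology i) := by
    intro i hi
    have := hiso i (by omega)
    exact IsZero.of_iso ((restrictFunctor V.ι).map_isZero (h i hi)) (asIso (β i))
  have hfl := isFinLocFree_cycles E hE (m + 1) hz (m + 1) le_rfl
  have hprev : (ComplexShape.up ℤ).prev (m + 1) = m := by
    rw [CochainComplex.prev]; omega
  have := hiso (m + 1) (by omega)
  let e : cokernel (E.toCycles m (m + 1)) ≅ (DCoh.HD K (m + 1)).restrict V.ι :=
    (colimit.isColimit _).coconePointUniqueUpToIso (E.homologyIsCokernel m (m + 1) hprev) ≪≫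
      asIso (β (m + 1))
  exact locFinPres_of_cokernel (E.toCycles m (m + 1)) e (hE.2 m) hfl

end Groth.Agent.H33.PC
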