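import Mathlib
import Groth.Agent.H33.PC.Top
import Groth.Agent.H18.QCohLocal

/-!
# Quasi-coherence of the high cohomology sheaves of a pseudo-coherent object
-/

set_option autoImplicit false
universe u
open CategoryTheory CategoryTheory.Limits AlgebraicGeometry Scheme.Modules TopologicalSpace

attribute [local instance] HasDerivedCategory.standard

namespace Groth.Agent.H33.PC

variable {X : Scheme.{u}}

open Groth.Agent.H12.QCohAbelian in
/-- the homology of a complex with quasi-coherent terms is quasi-coherent -/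
theorem isQuasicoherent_homology (E : CochainComplex X.Modules ℤ)
    (hE : ∀ i : ℤ, (E.X i).IsQuasicoherent) (i : ℤ) : (E.homology i).IsQuasicoherent := by
  have h1 : (E.cycles i).IsQuasicoherent := by
    have := hE i
    have := hE (i + 1)
    have hk : (kernel (E.d i (i + 1))).IsQuasicoherent := isQuasicoherent_kernel _
    exact @isQuasicoherent_of_iso _ _ _
      ((limit.isLimit _).conePointUniqueUpToIso (E.cyclesIsKernel i (i + 1) (by simp))) hk
  have := hE (i - 1)
  have hc : (cokernel (E.toCycles (i - 1) i)).IsQuasicoherent := isQuasicoherent_cokernel _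
  have hprev : (ComplexShape.up ℤ).prev i = i - 1 := by
    rw [CochainComplex.prev]
  exact @isQuasicoherent_of_iso _ _ _
    ((colimit.isColimit _).coconePointUniqueUpToIso (E.homologyIsCokernel (i - 1) i hprev)) hc

theorem isQuasicoherent_homology_of_isStrictlyPerfect (E : CochainComplex X.Modules ℤ)
    (hE : DCoh.IsStrictlyPerfect E) (i : ℤ) : (E.homology i).IsQuasicoherent :=
  isQuasicoherent_homology E
    (fun j => Groth.Agent.H5.PerfectPull.isQuasicoherent_of_isFinLocFree _ (hE.2 j)) i

theorem isQCoh_HD_of_pseudoCoherent (m : ℤ) (K : DCoh.D X) (hK : DCoh.IsPseudoCoherentD m K)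
    (i : ℤ) (hi : m < i) : Coh.IsQCoh (DCoh.HD K i) := by
  choose V E β hxV hE hiso hepi using exists_local_data m K hK
  have hcov : IsOpenCover V := by
    rw [IsOpenCover, eq_top_iff]
    intro x _
    exact Opens.mem_iSup.2 ⟨x, hxV x⟩
  refine Groth.Agent.H18.isQuasicoherent_of_isOpenCover _ V hcov (fun x => ?_)
  have := hiso x i hi
  have := isQuasicoherent_homology_of_isStrictlyPerfect (E x) (hE x) i
  exact Groth.Agent.H12.QCohAbelian.isQuasicoherent_of_iso (asIso (β x i))

theorem exists_qcoh_epi_HD_of_pseudoCoherent (m : ℤ) (K : DCoh.D X)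
    (hK : DCoh.IsPseudoCoherentD m K) (x : X) :
    ∃ (V : X.Opens) (Q : (V : Scheme.{u}).Modules)
      (π : Q ⟶ (Scheme.Modules.restrictFunctor V.ι).obj (DCoh.HD K m)),
      x ∈ V ∧ Coh.IsQCoh Q ∧ Epi π := by
  obtain ⟨V, E, β, hxV, hE, -, hepi⟩ := exists_local_data m K hK x
  exact ⟨V, E.homology m, β m, hxV, isQuasicoherent_homology_of_isStrictlyPerfect E hE m, hepi⟩

end Groth.Agent.H33.PC
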