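import Mathlib
import Groth.Agent.H33.PC.QCohHD
import Groth.Agent.H33.Supp.Basic
import Groth.Agent.H71.QCoh.ExactSections

/-!
# Perfect objects on Noetherian schemes have bounded coherent cohomology
-/

set_option autoImplicit false
universe u
open CategoryTheory CategoryTheory.Limits AlgebraicGeometry Scheme.Modules TopologicalSpace

attribute [local instance] HasDerivedCategory.standard

namespace Groth.Agent.H33.PC

variable {X : Scheme.{u}}

/-- vanishing of a module is local -/
lemma isZero_of_locally (M : X.Modules)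
    (h : ∀ x : X, ∃ V : X.Opens, x ∈ V ∧ IsZero (M.restrict V.ι)) : IsZero M := by
  refine Groth.Agent.H71.QCoh.isZero_of_subsingleton_sections M (fun W =>
    Groth.Agent.H71.QCoh.subsingleton_sections_of_stalks M W (fun x _ => ?_))
  obtain ⟨V, hxV, hV⟩ := h x
  exact Groth.Agent.H33.Supp.subsingleton_stalk_of_isZero_restrictOpen M V hV hxV

open Groth.Agent.H12.QCohAbelian in
theorem isQuasicoherent_cycles (E : CochainComplex X.Modules ℤ)
    (hE : ∀ i : ℤ, (E.X i).IsQuasicoherent) (i : ℤ) : (E.cycles i).IsQuasicoherent := by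
  have := hE i
  have := hE (i + 1)
  have hk : (kernel (E.d i (i + 1))).IsQuasicoherent := isQuasicoherent_kernel _
  exact @isQuasicoherent_of_iso _ _ _
    ((limit.isLimit _).conePointUniqueUpToIso (E.cyclesIsKernel i (i + 1) (by simp))) hk

/-- on a locally Noetherian scheme, the homology of a complex of quasi-coherent modules of finite
type is of finite type -/
theorem isFT_homology [IsLocallyNoetherian X] (E : CochainComplex X.Modules ℤ)
    (hq : ∀ i : ℤ, (E.X i).IsQuasicoherent) (hf : ∀ i : ℤ, CohB1.IsFT (E.X i)) (i : ℤ) :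
    CohB1.IsFT (E.homology i) := by
  have h1 := isQuasicoherent_cycles E hq i
  have h2 := isQuasicoherent_homology E hq i
  have := hq i
  have : SheafOfModules.IsFiniteType (R := X.ringCatSheaf) (E.X i) := hf i
  have h3 : SheafOfModules.IsFiniteType (R := X.ringCatSheaf) (E.cycles i) :=
    Groth.Agent.H71.QCoh.isFiniteType_of_mono (E.iCycles i)
  exact Groth.Agent.H71.QCoh.isFiniteType_of_epi (E.homologyπ i)

lemma isFT_of_isFinLocFree (M : X.Modules) (hM : FlatMod.IsFinLocFree M) : CohB1.IsFT M :=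
  isFT_of_locFinGen M (locFinGen_of_epi (𝟙 M) hM)

/-- local model of a perfect object -/
lemma exists_local_model_of_isPerfect (K : DCoh.D X) (hK : DCoh.IsPerfect K) (x : X) :
    ∃ (V : X.Opens) (E : CochainComplex (V : Scheme.{u}).Modules ℤ)
      (_ : ∀ i : ℤ, E.homology i ≅ (DCoh.HD K i).restrict V.ι),
      x ∈ V ∧ DCoh.IsStrictlyPerfect E := by
  obtain ⟨V, hxV, hV⟩ := hK x
  let F := DerivedCategory.Q.objPreimage K
  let eF : DCoh.toD X F ≅ K := DerivedCategory.Q.objObjPreimageIso K
  obtain ⟨E, hE, ⟨φ⟩⟩ := hV F ⟨eF⟩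
  exact ⟨V, E, fun i =>
    ((DerivedCategory.homologyFunctorFactors (V : Scheme.{u}).Modules i).app E).symm ≪≫
    (DerivedCategory.homologyFunctor (V : Scheme.{u}).Modules i).mapIso φ.symm ≪≫
    homologyRestrictIso K F eF V i, hxV, hE⟩

theorem isCohD_of_isPerfect [IsLocallyNoetherian X] (K : DCoh.D X) (hK : DCoh.IsPerfect K) :
    DCoh.IsCohD K := by
  choose V E β hxV hE using exists_local_model_of_isPerfect K hK
  have hcov : IsOpenCover V := by
    rw [IsOpenCover, eq_top_iff]
    intro x _
    exact Opens.mem_iSup.2 ⟨x, hxV x⟩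
  intro i
  constructor
  · refine Groth.Agent.H18.isQuasicoherent_of_isOpenCover _ V hcov (fun x => ?_)
    have := isQuasicoherent_homology_of_isStrictlyPerfect (E x) (hE x) i
    exact Groth.Agent.H12.QCohAbelian.isQuasicoherent_of_iso (β x i)
  · refine isFT_of_locFinGen _ (locFinGen_of_locally _ (fun x => ⟨V x, hxV x, ?_⟩))
    refine locFinGen_of_iso (β x i) (locFinGen_of_isFT _ ?_)
    exact isFT_homology (E x)
      (fun j => Groth.Agent.H5.PerfectPull.isQuasicoherent_of_isFinLocFree _ ((hE x).2 j))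
      (fun j => isFT_of_isFinLocFree _ ((hE x).2 j)) i

theorem exists_bounds_of_isPerfect [CompactSpace X] (K : DCoh.D X) (hK : DCoh.IsPerfect K) :
    ∃ a b : ℤ, K.IsGE a ∧ K.IsLE b := by
  choose V E β hxV hE using exists_local_model_of_isPerfect K hK
  choose a b hab using fun x => (hE x).1
  obtain ⟨t, ht⟩ := CompactSpace.elim_nhds_subcover (fun x => ((V x : X.Opens) : Set X))
    (fun x => (V x).isOpen.mem_nhds (hxV x))
  obtain ⟨A', hA'⟩ := (t.image (fun x => - a x)).exists_le
  obtain ⟨A, rfl⟩ : ∃ A : ℤ, A' = -A := ⟨-A', by simp⟩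
  obtain ⟨B, hB⟩ := (t.image b).exists_le
  have hcov : ∀ y : X, ∃ x ∈ t, y ∈ V x := by
    intro y
    have : y ∈ ⋃ x ∈ t, ((V x : X.Opens) : Set X) := by rw [ht]; trivial
    simpa using this
  have key : ∀ i : ℤ, (i < A ∨ B < i) → IsZero (DCoh.HD K i) := by
    intro i hi
    refine isZero_of_locally _ (fun y => ?_)
    obtain ⟨x, hxt, hyx⟩ := hcov y
    refine ⟨V x, hyx, IsZero.of_iso ?_ (β x i).symm⟩
    refine ShortComplex.isZero_homology_of_isZero_X₂ _ (hab x i ?_)
    have h1 : -a x ≤ -A := hA' _ (Finset.mem_image_of_mem (fun x => - a x) hxt)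
    have h2 : b x ≤ B := hB _ (Finset.mem_image_of_mem b hxt)
    omega
  refine ⟨A, B, ?_, ?_⟩
  · rw [DerivedCategory.isGE_iff]
    exact fun i hi => key i (Or.inl hi)
  · rw [DerivedCategory.isLE_iff]
    exact fun i hi => key i (Or.inr hi)

end Groth.Agent.H33.PC
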