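import Mathlib
import Groth.Agent.H33.PC.Top
import Groth.Agent.H5.PerfectFree

/-!
# Pseudo-coherence of a module placed in degree zero
-/

set_option autoImplicit false
universe u
open CategoryTheory CategoryTheory.Limits AlgebraicGeometry Scheme.Modules TopologicalSpace

namespace Groth.Agent.H33.PC

section Abstract

universe w v
variable {C : Type u} [Category.{v} C] [Abelian C] [HasDerivedCategory.{w} C]

open DerivedCategory

omit [HasDerivedCategory C] in
lemma isIso_of_two_cokernels {A B Q₁ Q₂ : C} (f : A ⟶ B) (p : B ⟶ Q₁) (π : B ⟶ Q₂) (h : Q₁ ⟶ Q₂)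
    (w₁ : f ≫ p = 0) (w₂ : f ≫ π = 0) (fac : p ≫ h = π)
    (ex₁ : (ShortComplex.mk f p w₁).Exact) (ex₂ : (ShortComplex.mk f π w₂).Exact)
    [Epi p] [Epi π] : IsIso h := by
  have hc₁ := ex₁.gIsCokernel
  have hc₂ := ex₂.gIsCokernel
  let e := hc₁.coconePointUniqueUpToIso hc₂
  have he : p ≫ e.hom = π := hc₁.comp_coconePointUniqueUpToIso_hom hc₂ WalkingParallelPair.one
  have : h = e.hom := by rw [← cancel_epi p, fac, he]
  rw [this]; infer_instance

omit [HasDerivedCategory C] in
lemma isIso_of_isZero' {A B : C} (f : A ⟶ B) (hA : IsZero A) (hB : IsZero B) : IsIso f :=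
  ⟨⟨0, hA.eq_of_src _ _, hB.eq_of_src _ _⟩⟩

omit [Abelian C] [HasDerivedCategory C] in
lemma epi_of_isZero_tgt {A B : C} (f : A ⟶ B) (hB : IsZero B) : Epi f :=
  ⟨fun _ _ _ => hB.eq_of_src _ _⟩

/-- `H^0` of a map between single complexes -/
lemma single_homology_map_eq {A B : C} (f : A ⟶ B) :
    (homologyFunctor C 0).map ((singleFunctor C 0).map f) =
      (singleFunctorCompHomologyFunctorIso C 0).hom.app A ≫ f ≫
        (singleFunctorCompHomologyFunctorIso C 0).inv.app B := by
  have := (singleFunctorCompHomologyFunctorIso C 0).hom.naturality f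
  simp only [Functor.comp_map, Functor.id_map] at this
  rw [← Category.assoc, ← this, Category.assoc, Iso.hom_inv_id_app, Category.comp_id]

lemma epi_single_homology_map {A B : C} (f : A ⟶ B) [Epi f] :
    Epi ((homologyFunctor C 0).map ((singleFunctor C 0).map f)) := by
  rw [single_homology_map_eq]
  infer_instance

lemma exact_single_homology {A B G : C} (f : A ⟶ B) (π : B ⟶ G) (w : f ≫ π = 0)
    (ex : (ShortComplex.mk f π w).Exact) :
    (ShortComplex.mk ((homologyFunctor C 0).map ((singleFunctor C 0).map f))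
      ((homologyFunctor C 0).map ((singleFunctor C 0).map π))
      (by rw [← Functor.map_comp, ← Functor.map_comp, w, Functor.map_zero,
        Functor.map_zero])).Exact := by
  let e := singleFunctorCompHomologyFunctorIso C 0
  refine ShortComplex.exact_of_iso (ShortComplex.isoMk (e.app A) (e.app B) (e.app G) ?_ ?_).symm ex
  · exact (e.hom.naturality f).symm
  · exact (e.hom.naturality π).symm

lemma isZero_homology_single_of_ne (A : C) (i : ℤ) (hi : i ≠ 0) :
    IsZero ((homologyFunctor C i).obj ((singleFunctor C 0).obj A)) := by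
  rcases lt_or_gt_of_ne hi with h | h
  · exact isZero_of_isGE _ 0 i h
  · exact isZero_of_isLE _ 0 i h

/-- the map from the cone of `S(f)` to `S(coker f)` -/
theorem exists_map_cone_single {A B G : C} (f : A ⟶ B) (π : B ⟶ G) (w : f ≫ π = 0)
    (ex : (ShortComplex.mk f π w).Exact) [Epi π] :
    ∃ α : Q.obj (CochainComplex.mappingCone ((CochainComplex.singleFunctor C 0).map f)) ⟶
        (DerivedCategory.singleFunctor C 0).obj G,
      (∀ i : ℤ, -1 < i → IsIso ((homologyFunctor C i).map α)) ∧
        Epi ((homologyFunctor C (-1)).map α) := by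
  let φ := (CochainComplex.singleFunctor C 0).map f
  let T := Q.mapTriangle.obj (CochainComplex.mappingCone.triangle φ)
  have hT : T ∈ distTriang _ := mappingCone_triangle_distinguished φ
  have hT1 : T.mor₁ = (singleFunctor C 0).map f := rfl
  have h0' : (singleFunctor C 0).map f ≫ (singleFunctor C 0).map π = 0 := by
    rw [← Functor.map_comp, w, Functor.map_zero]
  have h0 : T.mor₁ ≫ (singleFunctor C 0).map π = 0 := h0'
  obtain ⟨α, hα⟩ := Pretriangulated.Triangle.yoneda_exact₂ T hT _ h0
  have hz1 : ∀ i : ℤ, i ≠ 0 → IsZero ((homologyFunctor C i).obj T.obj₁) :=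
    fun i hi => isZero_homology_single_of_ne A i hi
  have hz2 : ∀ i : ℤ, i ≠ 0 → IsZero ((homologyFunctor C i).obj T.obj₂) :=
    fun i hi => isZero_homology_single_of_ne B i hi
  refine ⟨α, fun i hi => ?_, ?_⟩
  · rcases eq_or_ne i 0 with rfl | hne
    · -- degree 0
      have ex₁ := (homologyFunctor C 0).homologySequence_exact₂ T hT 0
      have hepi : Epi ((homologyFunctor C 0).map T.mor₂) := by
        have := ((homologyFunctor C 0).homologySequence_epi_shift_map_mor₂_iff T hT 0 1 rfl).2
          ((hz1 1 (by omega)).eq_of_tgt _ _)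
        exact this
      have ex₂ := exact_single_homology f π w ex
      have hepi' := epi_single_homology_map (C := C) π
      have fac : (homologyFunctor C 0).map T.mor₂ ≫ (homologyFunctor C 0).map α =
          (homologyFunctor C 0).map ((singleFunctor C 0).map π) := by
        rw [← Functor.map_comp, ← hα]
        rfl
      exact @isIso_of_two_cokernels C _ _ _ _ _ _ ((homologyFunctor C 0).map T.mor₁)
        ((homologyFunctor C 0).map T.mor₂) ((homologyFunctor C 0).map ((singleFunctor C 0).map π))
        _ _ _ fac ex₁ ex₂ hepi hepi'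
    · -- degree > 0
      have hi' : 0 < i := by omega
      refine isIso_of_isZero' _ ?_ (isZero_homology_single_of_ne G i hne)
      have ex₃ := (homologyFunctor C 0).homologySequence_exact₃ T hT i (i + 1) rfl
      exact ex₃.isZero_of_both_zeros ((hz2 i hne).eq_of_src _ _)
        ((hz1 (i + 1) (by omega)).eq_of_tgt _ _)
  · exact epi_of_isZero_tgt _ (isZero_homology_single_of_ne G (-1) (by omega))

end Abstract


section OnScheme

attribute [local instance] HasDerivedCategory.standard

variable {X : Scheme.{u}}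

open Groth.Agent.H33.Perf

lemma isZero_HD_inD_of_pos (F : X.Modules) (i : ℤ) (hi : 0 < i) :
    IsZero (DCoh.HD (DCoh.inD X F) i) :=
  DerivedCategory.isZero_of_isLE (DCoh.inD X F) 0 i hi

/-- `H^0` of a module placed in degree zero -/
noncomputable def HDinDIso (F : X.Modules) : DCoh.HD (DCoh.inD X F) 0 ≅ F :=
  (DerivedCategory.singleFunctorCompHomologyFunctorIso X.Modules 0).app F

theorem isFT_of_pc_single (F : X.Modules) (h : DCoh.IsPseudoCoherentD 0 (DCoh.inD X F)) :
    CohB1.IsFT F := by
  have h1 := isFT_HD 0 _ h (fun i hi => isZero_HD_inD_of_pos F i hi)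
  exact isFT_of_locFinGen _ (locFinGen_of_iso (HDinDIso F) h1)

theorem isFP_of_pc_single (F : X.Modules) (h : DCoh.IsPseudoCoherentD (-1) (DCoh.inD X F)) :
    CohB1.IsFP F := by
  have h1 := isFP_HD (-1) _ h (fun i hi => isZero_HD_inD_of_pos F i (by omega))
  exact isFP_of_locFinPres _ (locFinPres_of_iso (HDinDIso F) h1)

/-- restriction of a representative of `inD X F` to `U` is `F|_U` placed in degree zero -/
noncomputable def restrictRepIsoSingle (F : X.Modules) (F' : CochainComplex X.Modules ℤ)
    (e : DCoh.toD X F' ≅ DCoh.inD X F) (U : X.Opens) :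
    DerivedCategory.Q.obj ((DCoh.restrictCx U).obj F') ≅
      (DerivedCategory.singleFunctor (U : Scheme.{u}).Modules 0).obj (F.restrict U.ι) :=
  ((restrictFunctor U.ι).mapDerivedCategoryFactors.app F').symm ≪≫
    (DCoh.restrictD U.ι).mapIso e ≪≫ Groth.Agent.H16.ExactDer.singleIso (restrictFunctor U.ι) F 0

theorem pc_single_of_local (m : ℤ) (F : X.Modules)
    (h : ∀ x : X, ∃ (U : X.Opens) (E : CochainComplex (U : Scheme.{u}).Modules ℤ)
      (α : DerivedCategory.Q.obj E ⟶
        (DerivedCategory.singleFunctor (U : Scheme.{u}).Modules 0).obj (F.restrict U.ι)),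
      x ∈ U ∧ DCoh.IsStrictlyPerfect E ∧
      (∀ i : ℤ, m < i → IsIso ((DerivedCategory.homologyFunctor _ i).map α)) ∧
      Epi ((DerivedCategory.homologyFunctor _ m).map α)) :
    DCoh.IsPseudoCoherentD m (DCoh.inD X F) := by
  intro x
  obtain ⟨U, E, α, hxU, hE, hiso, hepi⟩ := h x
  refine ⟨U, hxU, fun F' ⟨e⟩ => ?_⟩
  let φ := restrictRepIsoSingle F F' e U
  refine ⟨E, α ≫ φ.inv, hE, fun i hi => ?_, ?_⟩
  · rw [Functor.map_comp]
    have := hiso i hi
    infer_instance
  · rw [Functor.map_comp]
    have := hepi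
    exact epi_comp _ _

lemma isStrictlyPerfect_single (M : X.Modules) (hM : FlatMod.IsFinLocFree M) :
    DCoh.IsStrictlyPerfect ((CochainComplex.singleFunctor X.Modules 0).obj M) := by
  refine ⟨⟨0, 0, fun i hi => ?_⟩, fun i => ?_⟩
  · exact HomologicalComplex.isZero_single_obj_X _ _ _ _ (by omega)
  · rcases eq_or_ne i 0 with rfl | hi
    · exact isFinLocFree_of_iso' (HomologicalComplex.singleObjXSelf _ 0 M).symm hM
    · exact isFinLocFree_of_isZero _ (HomologicalComplex.isZero_single_obj_X _ _ _ _ hi)

theorem pc_single_of_isFT (F : X.Modules) (hF : CohB1.IsFT F) :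
    DCoh.IsPseudoCoherentD 0 (DCoh.inD X F) := by
  refine pc_single_of_local 0 F (fun x => ?_)
  obtain ⟨U, n, q, hxU, hq⟩ := locFinGen_of_isFT F hF x
  refine ⟨U, (CochainComplex.singleFunctor _ 0).obj (FlatMod.freeMod (U : Scheme.{u}) n),
    (DerivedCategory.singleFunctor _ 0).map q, hxU,
    isStrictlyPerfect_single _ (Groth.Agent.H5.PerfectFree.isFinLocFree_freeMod n),
    fun i hi => ?_, ?_⟩
  · exact isIso_of_isZero' _ (isZero_homology_single_of_ne _ i (by omega))
      (isZero_homology_single_of_ne _ i (by omega))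
  · exact epi_single_homology_map q

theorem pc_single_of_isFP (F : X.Modules) (hF : CohB1.IsFP F) :
    DCoh.IsPseudoCoherentD (-1) (DCoh.inD X F) := by
  refine pc_single_of_local (-1) F (fun x => ?_)
  obtain ⟨U, a, b, f, hxU, ⟨e⟩⟩ := locFinPres_of_isFP F hF x
  have w : f ≫ (cokernel.π f ≫ e.hom) = 0 := by simp
  have ex : (ShortComplex.mk f (cokernel.π f ≫ e.hom) w).Exact :=
    ShortComplex.exact_of_iso
      (ShortComplex.isoMk (S₁ := ShortComplex.mk f (cokernel.π f) (by simp))
        (S₂ := ShortComplex.mk f (cokernel.π f ≫ e.hom) w) (Iso.refl _) (Iso.refl _) e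
        (by simp) (by simp))
      (ShortComplex.exact_cokernel f)
  have : Epi (cokernel.π f ≫ e.hom) := epi_comp _ _
  obtain ⟨α, hiso, hepi⟩ := exists_map_cone_single f (cokernel.π f ≫ e.hom) w ex
  exact ⟨U, _, α, hxU, isStrictlyPerfect_mappingCone _
    (isStrictlyPerfect_single _ (Groth.Agent.H5.PerfectFree.isFinLocFree_freeMod a))
    (isStrictlyPerfect_single _ (Groth.Agent.H5.PerfectFree.isFinLocFree_freeMod b)), hiso, hepi⟩

end OnScheme

end Groth.Agent.H33.PC
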