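import Mathlib
import Groth.Agent.H33.PC.NoethCoh
import Groth.Agent.H33.PC.Single
import Groth.Agent.H33.Perf.Local
import Groth.Agent.H5.PCSummand

/-!
# Coherent modules on locally Noetherian schemes are pseudo-coherent
-/

set_option autoImplicit false
universe u
open CategoryTheory CategoryTheory.Limits AlgebraicGeometry Scheme.Modules TopologicalSpace

attribute [local instance] HasDerivedCategory.standard

namespace Groth.Agent.H33.PC

open Groth.Agent.H5.PCAlong Groth.Agent.H5.PCTriangle Groth.Agent.H5.PCSummand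
  Groth.Agent.H5.Approx

variable {X : Scheme.{u}}

/-- pseudo-coherence at a point can be checked on an open neighbourhood -/
lemma isPCAt_of_restrict {m : ℤ} (M : CochainComplex X.Modules ℤ) (V : X.Opens) (y : V)
    (h : IsPCAt m ((resCx V.ι).obj M) y) : IsPCAt m M y.1 := by
  obtain ⟨W, j, _, ⟨w, hw⟩, E, β, hE, hβ⟩ := h
  refine ⟨W, j ≫ V.ι, inferInstance, ⟨w, ?_⟩, E, β ≫ (resCxCompIso j V.ι M).inv, hE, ?_⟩
  · simp [hw]
  · rw [Functor.map_comp]
    exact hβ.comp_iso _

/-- pseudo-coherence is local -/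
theorem isPseudoCoherentD_of_locally (m : ℤ) (K : DCoh.D X)
    (h : ∀ x : X, ∃ V : X.Opens, x ∈ V ∧
      DCoh.IsPseudoCoherentD m ((DCoh.restrictD V.ι).obj K)) :
    DCoh.IsPseudoCoherentD m K := by
  let M := DerivedCategory.Q.objPreimage K
  let e : DerivedCategory.Q.obj M ≅ K := DerivedCategory.Q.objObjPreimageIso K
  rw [isPseudoCoherentD_iff e m]
  intro x
  obtain ⟨V, hxV, hV⟩ := h x
  have eV : DerivedCategory.Q.obj ((resCx V.ι).obj M) ≅ (DCoh.restrictD V.ι).obj K :=
    ((restrictFunctor V.ι).mapDerivedCategoryFactors.app M).symm ≪≫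
      (DCoh.restrictD V.ι).mapIso e
  exact isPCAt_of_restrict M V ⟨x, hxV⟩ ((isPseudoCoherentD_iff eV m).1 hV ⟨x, hxV⟩)

theorem pc_of_isPerfect (m : ℤ) (K : DCoh.D X) (hK : DCoh.IsPerfect K) :
    DCoh.IsPseudoCoherentD m K := by
  intro x
  obtain ⟨V, hxV, hV⟩ := hK x
  refine ⟨V, hxV, fun F eF => ?_⟩
  obtain ⟨E, hE, ⟨φ⟩⟩ := hV F eF
  exact ⟨E, φ.inv, hE, fun i _ => inferInstance, inferInstance⟩

theorem isPerfect_single (P : X.Modules) (hP : FlatMod.IsFinLocFree P) :
    DCoh.IsPerfect (DCoh.inD X P) := by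
  intro x
  exact ⟨⊤, trivial, fun F ⟨e⟩ =>
    ⟨(CochainComplex.singleFunctor _ 0).obj (P.restrict (⊤ : X.Opens).ι),
      isStrictlyPerfect_single _ (Groth.Agent.H33.Perf.isFinLocFree_restrict _ P hP),
      ⟨restrictRepIsoSingle P F e ⊤⟩⟩⟩

open Groth.Agent.H12.QCohAbelian in
/-- on a locally Noetherian scheme, a coherent module placed in degree `0` is `n`-pseudo-coherent
for every `n` -/
theorem pc_single_of_isCoh_aux : ∀ (k : ℕ) {X : Scheme.{u}} [IsLocallyNoetherian X]
    (G : X.Modules) (_ : Coh.IsCoh G), DCoh.IsPseudoCoherentD (-(k : ℤ)) (DCoh.inD X G)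
  | 0, X, _, G, hG => by simpa using pc_single_of_isFT G hG.2
  | k + 1, X, _, G, hG => by
    refine isPseudoCoherentD_of_locally _ _ (fun x => ?_)
    obtain ⟨V, r, q, hxV, hq⟩ := locFinGen_of_isFT G hG.2 x
    refine ⟨V, hxV, ?_⟩
    have hGq : (G.restrict V.ι).IsQuasicoherent := by
      have := hG.1
      infer_instance
    have hFl := Groth.Agent.H5.PerfectFree.isFinLocFree_freeMod (X := (V : Scheme.{u})) r
    have hFq : (FlatMod.freeMod (V : Scheme.{u}) r).IsQuasicoherent :=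
      Groth.Agent.H5.PerfectPull.isQuasicoherent_of_isFinLocFree _ hFl
    have hFf : SheafOfModules.IsFiniteType (R := (V : Scheme.{u}).ringCatSheaf)
      (FlatMod.freeMod (V : Scheme.{u}) r) := isFT_of_isFinLocFree _ hFl
    have hKq : (kernel q).IsQuasicoherent := isQuasicoherent_kernel q
    have hKf : SheafOfModules.IsFiniteType (R := (V : Scheme.{u}).ringCatSheaf) (kernel q) :=
      @Groth.Agent.H71.QCoh.isFiniteType_of_mono _ _ _ _ hKq hFq hFf (kernel.ι q) equalizer.ι_mono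
    have ih := pc_single_of_isCoh_aux k (kernel q) ⟨hKq, hKf⟩
    let S : ShortComplex (V : Scheme.{u}).Modules :=
      ShortComplex.mk (kernel.ι q) q (kernel.condition q)
    have hS : S.ShortExact :=
      { exact := ShortComplex.exact_of_f_is_kernel S (kernelIsKernel q)
        mono_f := inferInstanceAs (Mono (kernel.ι q))
        epi_g := hq }
    have hT := hS.singleTriangle_distinguished
    have e1 : (-((k + 1 : ℕ) : ℤ)) + 1 = -(k : ℤ) := by push_cast; ring
    have h3 := isPseudoCoherentD_obj₃ (-((k + 1 : ℕ) : ℤ)) hS.singleTriangle hT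
      (by rw [e1]; exact ih) (pc_of_isPerfect _ _ (isPerfect_single _ hFl))
    exact isPseudoCoherentD_of_iso
      (Groth.Agent.H16.ExactDer.singleIso (restrictFunctor V.ι) G 0).symm h3

theorem pc_single_of_isCoh [IsLocallyNoetherian X] (G : X.Modules) (hG : Coh.IsCoh G) (n : ℤ) :
    DCoh.IsPseudoCoherentD n (DCoh.inD X G) := by
  rcases le_or_gt 0 n with hn | hn
  · intro x
    obtain ⟨V, hxV, hV⟩ := pc_single_of_isFT G hG.2 x
    refine ⟨V, hxV, fun F eF => ?_⟩
    obtain ⟨E, α, hE, hα⟩ := hV F eF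
    exact ⟨E, α, hE, (IsApprox.of_le (m := 0) hα hn)⟩
  · obtain ⟨k, hk⟩ : ∃ k : ℕ, n = -(k : ℤ) := ⟨(-n).toNat, by omega⟩
    rw [hk]
    exact pc_single_of_isCoh_aux k G hG

end Groth.Agent.H33.PC
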