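import Mathlib
import Groth.Agent.H33.PC.CohPC

/-!
# Pseudo-coherence on Noetherian schemes in terms of coherent cohomology
-/

set_option autoImplicit false
universe u
open CategoryTheory CategoryTheory.Limits AlgebraicGeometry Scheme.Modules TopologicalSpace

namespace Groth.Agent.H33.PC

section Trunc

open DerivedCategory DerivedCategory.TStructure Pretriangulated

universe w v
variable {C : Type u} [Category.{v} C] [Abelian C] [HasDerivedCategory.{w} C]

/-- `H^i(τ_{≤a} K) ⟶ H^i(K)` is an isomorphism for `i ≤ a` -/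
lemma isIso_homology_truncLEι (K : DerivedCategory C) (a i : ℤ) (hi : i ≤ a) :
    IsIso ((homologyFunctor C i).map ((t.truncLEι a).app K)) := by
  let T := (t.triangleLEGE a (a + 1) rfl).obj K
  have hT : T ∈ distTriang _ := t.triangleLEGE_distinguished a (a + 1) rfl K
  have hge : T.obj₃.IsGE (a + 1) := inferInstanceAs (t.IsGE ((t.truncGE (a + 1)).obj K) (a + 1))
  have hz : ∀ j : ℤ, j ≤ a → IsZero ((homologyFunctor C j).obj T.obj₃) := fun j hj =>
    isZero_of_isGE T.obj₃ (a + 1) j (by omega)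
  have hepi : Epi ((homologyFunctor C i).map T.mor₁) :=
    ((homologyFunctor C 0).homologySequence_epi_shift_map_mor₁_iff T hT i).2
      ((hz i hi).eq_of_tgt _ _)
  have hmono : Mono ((homologyFunctor C i).map T.mor₁) :=
    ((homologyFunctor C 0).homologySequence_mono_shift_map_mor₁_iff T hT (i - 1) i (by omega)).2
      ((hz (i - 1) (by omega)).eq_of_src _ _)
  exact isIso_of_mono_of_epi ((homologyFunctor C i).map T.mor₁)

/-- `H^i(K) ⟶ H^i(τ_{≥b} K)` is an isomorphism for `i ≥ b` -/
lemma isIso_homology_truncGEπ (K : DerivedCategory C) (b i : ℤ) (hi : b ≤ i) :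
    IsIso ((homologyFunctor C i).map ((t.truncGEπ b).app K)) := by
  let T := (t.triangleLEGE (b - 1) b (by omega)).obj K
  have hT : T ∈ distTriang _ := t.triangleLEGE_distinguished (b - 1) b (by omega) K
  have hle : T.obj₁.IsLE (b - 1) :=
    inferInstanceAs (t.IsLE ((t.truncLE (b - 1)).obj K) (b - 1))
  have hz : ∀ j : ℤ, b ≤ j → IsZero ((homologyFunctor C j).obj T.obj₁) := fun j hj =>
    isZero_of_isLE T.obj₁ (b - 1) j (by omega)
  have hmono : Mono ((homologyFunctor C i).map T.mor₂) :=
    ((homologyFunctor C 0).homologySequence_mono_shift_map_mor₂_iff T hT i).2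
      ((hz i hi).eq_of_src _ _)
  have hepi : Epi ((homologyFunctor C i).map T.mor₂) :=
    ((homologyFunctor C 0).homologySequence_epi_shift_map_mor₂_iff T hT i (i + 1) rfl).2
      ((hz (i + 1) (by omega)).eq_of_tgt _ _)
  exact isIso_of_mono_of_epi ((homologyFunctor C i).map T.mor₂)

end Trunc

section OnScheme

attribute [local instance] HasDerivedCategory.standard

open DerivedCategory DerivedCategory.TStructure Pretriangulated ZeroObject
open Groth.Agent.H5.PCAlong Groth.Agent.H5.PCTriangle Groth.Agent.H5.PCSummand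
  Groth.Agent.H5.Approx

variable {X : Scheme.{u}}

lemma locFinGen_of_epi_of_locFinGen {G G' : X.Modules} (p : G ⟶ G') [Epi p]
    (h : LocFinGen G) : LocFinGen G' := by
  intro x
  obtain ⟨U, n, q, hxU, hq⟩ := h x
  have : Epi ((restrictFunctor U.ι).map p) := inferInstance
  exact ⟨U, n, q ≫ (restrictFunctor U.ι).map p, hxU, epi_comp _ _⟩

lemma isCoh_of_iso {M N : X.Modules} (e : M ≅ N) (h : Coh.IsCoh M) : Coh.IsCoh N := by
  have := h.1
  exact ⟨Groth.Agent.H12.QCohAbelian.isQuasicoherent_of_iso e,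
    isFT_of_locFinGen _ (locFinGen_of_iso e (locFinGen_of_isFT _ h.2))⟩

lemma isCoh_of_isZero {M : X.Modules} (h : IsZero M) : Coh.IsCoh M := by
  have hfl := Groth.Agent.H33.Perf.isFinLocFree_of_isZero M h
  exact ⟨Groth.Agent.H5.PerfectPull.isQuasicoherent_of_isFinLocFree _ hfl,
    isFT_of_isFinLocFree _ hfl⟩

/-- an object bounded above by `b < m` is `m`-pseudo-coherent -/
lemma pc_of_isLE (K : DCoh.D X) (b m : ℤ) (hK : K.IsLE b) (hbm : b < m) :
    DCoh.IsPseudoCoherentD m K := by
  intro x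
  refine ⟨⊤, trivial, fun F ⟨eF⟩ => ?_⟩
  have hz : ∀ i : ℤ, b < i → IsZero ((DerivedCategory.homologyFunctor _ i).obj
      (DerivedCategory.Q.obj ((DCoh.restrictCx (⊤ : X.Opens)).obj F))) := fun i hi =>
    IsZero.of_iso ((restrictFunctor (⊤ : X.Opens).ι).map_isZero
      (DerivedCategory.isZero_of_isLE K b i hi)) (homologyRestrictIso K F eF ⊤ i)
  have hz0 : ∀ i : ℤ, IsZero ((DerivedCategory.homologyFunctor _ i).obj
      (DerivedCategory.Q.obj (0 : CochainComplex ((⊤ : X.Opens) : Scheme.{u}).Modules ℤ))) :=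
    fun i => (DerivedCategory.homologyFunctor _ i).map_isZero
      (DerivedCategory.Q.map_isZero (isZero_zero _))
  refine ⟨0, 0, Groth.Agent.H33.Perf.isStrictlyPerfect_zero, fun i hi => ?_, ?_⟩
  · exact isIso_of_isZero' _ (hz0 i) (hz i (by omega))
  · exact epi_of_isZero_tgt _ (hz m hbm)

/-- on a locally Noetherian scheme, a bounded above object with coherent cohomology in degrees
`≥ m` is `m`-pseudo-coherent -/
theorem pc_of_coh_of_isLE [IsLocallyNoetherian X] : ∀ (n : ℕ) (K : DCoh.D X) (b m : ℤ),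
    K.IsLE b → b < m + n → (∀ i : ℤ, m ≤ i → Coh.IsCoh (DCoh.HD K i)) →
    DCoh.IsPseudoCoherentD m K
  | 0, K, b, m, hb, hbm, _ => pc_of_isLE K b m hb (by omega)
  | n + 1, K, b, m, hb, hbm, hK => by
    rcases lt_or_ge b m with h | h
    · exact pc_of_isLE K b m hb h
    · let T := (t.triangleLEGE (b - 1) b (by omega)).obj K
      have hT : T ∈ distTriang _ := t.triangleLEGE_distinguished (b - 1) b (by omega) K
      have hle : T.obj₁.IsLE (b - 1) :=
        inferInstanceAs (t.IsLE ((t.truncLE (b - 1)).obj K) (b - 1))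
      have h₁ : DCoh.IsPseudoCoherentD m T.obj₁ := by
        refine pc_of_coh_of_isLE n T.obj₁ (b - 1) m hle (by push_cast at hbm; omega)
          (fun i hi => ?_)
        rcases le_or_gt i (b - 1) with hi' | hi'
        · have := isIso_homology_truncLEι K (b - 1) i hi'
          exact isCoh_of_iso
            (asIso ((homologyFunctor _ i).map ((t.truncLEι (b - 1)).app K))).symm (hK i hi)
        · exact isCoh_of_isZero (DerivedCategory.isZero_of_isLE T.obj₁ (b - 1) i hi')
      have hge : T.obj₃.IsGE b := inferInstanceAs (t.IsGE ((t.truncGE b).obj K) b)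
      have hle₃ : T.obj₃.IsLE b := by
        rw [DerivedCategory.isLE_iff]
        intro i hi
        have := isIso_homology_truncGEπ K b i (by omega)
        exact IsZero.of_iso (DerivedCategory.isZero_of_isLE K b i hi)
          (asIso ((homologyFunctor _ i).map ((t.truncGEπ b).app K))).symm
      obtain ⟨Y, ⟨e⟩⟩ := DerivedCategory.exists_iso_singleFunctor_obj_of_isGE_of_isLE T.obj₃ b
      have hY : Coh.IsCoh Y := by
        have := isIso_homology_truncGEπ K b b le_rfl
        exact isCoh_of_iso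
          (asIso ((homologyFunctor _ b).map ((t.truncGEπ b).app K)) ≪≫
            (homologyFunctor _ b).mapIso e ≪≫
            (DerivedCategory.singleFunctorCompHomologyFunctorIso X.Modules b).app Y) (hK b h)
      have h₃ : DCoh.IsPseudoCoherentD m T.obj₃ := by
        have h0 := isPseudoCoherentD_shift (DCoh.inD X Y) (-b) m (m := m - b) (by omega)
          (pc_single_of_isCoh Y hY (m - b))
        exact isPseudoCoherentD_of_iso
          (((DerivedCategory.singleFunctors X.Modules).shiftIso (-b) b 0 (by omega)).app Y ≪≫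
            e.symm) h0
      exact (triangle m T hT).2.1 h₁ h₃

theorem coh_of_pc [IsLocallyNoetherian X] (K : DCoh.D X) (hq : DCoh.IsQCohD K) (m : ℤ)
    (hK : DCoh.IsPseudoCoherentD m K) (i : ℤ) (hi : m ≤ i) : Coh.IsCoh (DCoh.HD K i) := by
  refine ⟨hq i, ?_⟩
  refine isFT_of_locFinGen _ (locFinGen_of_locally _ (fun x => ?_))
  obtain ⟨V, E, β, hxV, hE, hiso, hepi⟩ := exists_local_data m K hK x
  refine ⟨V, hxV, ?_⟩
  have hft : CohB1.IsFT (E.homology i) := isFT_homology E
    (fun j => Groth.Agent.H5.PerfectPull.isQuasicoherent_of_isFinLocFree _ (hE.2 j))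
    (fun j => isFT_of_isFinLocFree _ (hE.2 j)) i
  have hepi' : Epi (β i) := by
    rcases hi.eq_or_lt with rfl | h
    · exact hepi
    · have := hiso i h
      infer_instance
  exact locFinGen_of_epi_of_locFinGen (β i) (locFinGen_of_isFT _ hft)

theorem exists_isLE_of_pc [CompactSpace X] (K : DCoh.D X) (m : ℤ)
    (hK : DCoh.IsPseudoCoherentD m K) : ∃ b : ℤ, K.IsLE b := by
  choose V E β hxV hE hiso hepi using exists_local_data m K hK
  choose a b hab using fun x => (hE x).1
  obtain ⟨t, ht⟩ := CompactSpace.elim_nhds_subcover (fun x => ((V x : X.Opens) : Set X))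
    (fun x => (V x).isOpen.mem_nhds (hxV x))
  obtain ⟨B, hB⟩ := (t.image b).exists_le
  have hcov : ∀ y : X, ∃ x ∈ t, y ∈ V x := by
    intro y
    have : y ∈ ⋃ x ∈ t, ((V x : X.Opens) : Set X) := by rw [ht]; trivial
    simpa using this
  refine ⟨max B m, ?_⟩
  rw [DerivedCategory.isLE_iff]
  intro i hi
  refine isZero_of_locally _ (fun y => ?_)
  obtain ⟨x, hxt, hyx⟩ := hcov y
  have := hiso x i (by omega)
  refine ⟨V x, hyx, IsZero.of_iso ?_ (asIso (β x i)).symm⟩
  have h2 : b x ≤ B := hB _ (Finset.mem_image_of_mem b hxt)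
  exact ShortComplex.isZero_homology_of_isZero_X₂ _ (hab x i (Or.inr (by omega)))

theorem pc_iff_coh [IsNoetherian X] (E : DCoh.D X) (hE : DCoh.IsQCohD E) (m : ℤ) :
    DCoh.IsPseudoCoherentD m E ↔
      (∀ i : ℤ, m ≤ i → Coh.IsCoh (DCoh.HD E i)) ∧ ∃ b : ℤ, E.IsLE b :=
  ⟨fun h => ⟨coh_of_pc E hE m h, exists_isLE_of_pc E m h⟩,
    fun ⟨h1, b, hb⟩ => pc_of_coh_of_isLE (b - m + 1).toNat E b m hb (by omega) h1⟩

end OnScheme

end Groth.Agent.H33.PC
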