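import Mathlib
import Groth.Agent.H33.PC.CohPC
import Groth.Agent.H71.QCoh.StalkFree

/-!
# Perfect objects are perfect relative to a flat morphism
-/

set_option autoImplicit false
universe u
open CategoryTheory CategoryTheory.Limits AlgebraicGeometry Scheme.Modules TopologicalSpace

attribute [local instance] HasDerivedCategory.standard

namespace Groth.Agent.H33.PC

/-- a free module over a flat algebra is flat over the base, for the restricted module structure -/
lemma flat_compHom_of_free {A B : Type*} [CommRing A] [CommRing B] (φ : A →+* B) (hφ : φ.Flat)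
    (M : Type*) [AddCommGroup M] [Module B M] [Module.Free B M] :
    letI := Module.compHom M φ
    Module.Flat A M := by
  let _ := φ.toAlgebra
  let _ := Module.compHom M φ
  have : IsScalarTower A B M := ⟨fun a b m => by
    change (φ a * b) • m = φ a • (b • m)
    rw [mul_smul]⟩
  have : Module.Flat A B := hφ
  exact Module.Flat.trans A B M

variable {X S : Scheme.{u}}

theorem isFlatOver_of_isFinLocFree (f : X ⟶ S) [Flat f] (M : X.Modules)
    (hM : FlatMod.IsFinLocFree M) : FlatMod.IsFlatOver f M := by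
  intro x
  have := Groth.Agent.H5.PerfectPull.isQuasicoherent_of_isFinLocFree M hM
  have := Groth.Agent.H71.QCoh.free_stalks_of_isFinLocFree M hM x
  exact flat_compHom_of_free (f.stalkMap x).hom (Flat.stalkMap f x) _

theorem locHasFiniteRelTorDim_of_isPerfect (f : X ⟶ S) [Flat f] (E : DCoh.D X)
    (hE : DCoh.IsPerfect E) : DCoh.LocHasFiniteRelTorDim f E := by
  intro x
  obtain ⟨V, hxV, hV⟩ := hE x
  let F₀ := DerivedCategory.Q.objPreimage E
  let e₀ : DCoh.toD X F₀ ≅ E := DerivedCategory.Q.objObjPreimageIso E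
  obtain ⟨E₀, ⟨⟨a, b, hab⟩, hfl⟩, ⟨φ₀⟩⟩ := hV F₀ ⟨e₀⟩
  refine ⟨V, a, b, hxV, fun F' ⟨e'⟩ => ⟨E₀, hab, fun i => ?_, ⟨?_⟩⟩⟩
  · exact isFlatOver_of_isFinLocFree (V.ι ≫ f) _ (hfl i)
  · exact φ₀.symm ≪≫ ((restrictFunctor V.ι).mapDerivedCategoryFactors.app F₀).symm ≪≫
      (DCoh.restrictD V.ι).mapIso (e₀ ≪≫ e'.symm) ≪≫
      (restrictFunctor V.ι).mapDerivedCategoryFactors.app F'

end Groth.Agent.H33.PC
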